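import Groth.Agent.CohOps.LpullDual
import Groth.Agent.Desc44.QCohDescent.Main
import Groth.Agent.PerfExt.Affine
import Groth.Agent.PCohD.Basic
import Groth.Agent.KFlat.TildePC
import Groth.Agent.DRing.Descent

/-! Descent of perfect and pseudo-coherent objects along flat surjective quasi-compact morphisms. -/

set_option autoImplicit false
set_option backward.isDefEq.respectTransparency.types false

universe u

open CategoryTheory CategoryTheory.Limits AlgebraicGeometry TopologicalSpace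

attribute [local instance] HasDerivedCategory.standard

noncomputable section

namespace Groth.Agent.PerfDesc3

variable {X Y : Scheme.{u}}

/-- A family of flat algebras whose spectra cover the spectrum detects modules. -/
theorem detects_of_surjective {A : Type u} [CommRing A] {ι : Type} [Finite ι] {B : ι → Type u}
    [∀ i, CommRing (B i)] (φ : ∀ i, A →+* B i) (hφ : ∀ i, (φ i).Flat)
    (hs : ∀ p : PrimeSpectrum A, ∃ i, p ∈ Set.range (PrimeSpectrum.comap (φ i))) :
    DRing.PCDescent.Detects φ := by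
  intro M h
  letI : ∀ i, Algebra A (B i) := fun i => (φ i).toAlgebra
  haveI : ∀ i, Module.Flat A (B i) := hφ
  haveI : ∀ i, Subsingleton (TensorProduct A (B i) M) := h
  refine subsingleton_of_forall_eq 0 fun m => ?_
  by_contra hm
  have hI : (Submodule.span A {m}).annihilator ≠ ⊤ := by
    rw [Ne, Ideal.eq_top_iff_one, Submodule.mem_annihilator_span_singleton, one_smul]; exact hm
  obtain ⟨p, hp, hle⟩ := Ideal.exists_le_maximal _ hI
  obtain ⟨i, q, hq⟩ := hs ⟨p, hp.isPrime⟩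
  let I : Ideal A := (Submodule.span A {m}).annihilator
  have hle' : I ≤ LinearMap.ker (LinearMap.toSpanSingleton A M m) := fun a ha =>
    LinearMap.mem_ker.2 ((LinearMap.toSpanSingleton_apply A M m a).trans
      ((Submodule.mem_annihilator_span_singleton m a).1 ha))
  let g : (A ⧸ I) →ₗ[A] M := Submodule.liftQ I (LinearMap.toSpanSingleton A M m) hle'
  have hg : Function.Injective g := by
    rw [← LinearMap.ker_eq_bot]
    refine Submodule.ker_liftQ_eq_bot _ _ _ fun a ha => ?_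
    exact (Submodule.mem_annihilator_span_singleton m a).2
      ((LinearMap.toSpanSingleton_apply A M m a).symm.trans (LinearMap.mem_ker.1 ha))
  haveI : Subsingleton (TensorProduct A (B i) (A ⧸ I)) :=
    (Module.Flat.lTensor_preserves_injective_linearMap (M := B i) g hg).subsingleton
  have h1 : (1 : B i) ∈ I.map (φ i) := by
    have e := (Algebra.TensorProduct.quotIdealMapEquivTensorQuot (B i) I).toEquiv.subsingleton
    have := @Subsingleton.elim _ e (Ideal.Quotient.mk (I.map (algebraMap A (B i))) 1) 0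
    exact Ideal.Quotient.eq_zero_iff_mem.1 this
  have h2 : I.map (φ i) ≤ q.asIdeal := by
    rw [Ideal.map_le_iff_le_comap]
    exact hle.trans_eq (congrArg PrimeSpectrum.asIdeal hq).symm
  exact q.2.ne_top ((Ideal.eq_top_iff_one _).2 (h2 h1))

theorem isQuasicoherent_HD (f : X ⟶ Y) [Flat f] [Surjective f] [QuasiCompact f] [DCoh.HasLpull f]
    {E : DCoh.D Y} (h : DCoh.IsQCohD ((DCoh.Lpull f).obj E)) : DCoh.IsQCohD E := fun i => by
  obtain ⟨e⟩ := CohOps.LpullDual.nonempty_Lpull f E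
  haveI : ((Scheme.Modules.pullback f).obj ((DerivedCategory.homologyFunctor Y.Modules i).obj E)).IsQuasicoherent :=
    @Groth.Agent.QCoh.isQuasicoherent_of_iso _ _ _
      ((KFlat.MapHomology.iso (Scheme.Modules.pullback f) i).app E)
      ((KFlat.QCohModel.isQCohD_of_iso e h) i)
  exact Desc44.QCohDescent.isQuasicoherent_of_pullback f _

section

variable (f : X ⟶ Y) [Flat f] [Surjective f] [QuasiCompact f] [DCoh.HasLpull f] {E : DCoh.D Y}

/-- Charts over an affine open of the base. -/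
theorem exists_chart (hE : DCoh.IsQCohD E) (U : Y.Opens) (hU : IsAffineOpen U) :
    ∃ (K : DRing.Cx Γ(Y, U)) (n : ℕ) (B : Fin n → CommRingCat.{u}) (φ : ∀ i, Γ(Y, U) →+* B i)
      (j : ∀ i, Spec (B i) ⟶ X) (_ : ∀ i, IsOpenImmersion (j i)),
      (∀ i, (φ i).Flat) ∧ DRing.PCDescent.Detects φ ∧
      (haveI := hU.isOpenImmersion_fromSpec
       haveI := KFlat.TildeExact.preservesFiniteLimits_tilde Γ(Y, U)
       Nonempty ((DCoh.restrictD hU.fromSpec).obj E ≅ (DCoh.tildeD Γ(Y, U)).obj (DRing.toD K))) ∧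
      ∀ i, (haveI := KFlat.TildeExact.preservesFiniteLimits_tilde (B i)
       Nonempty ((DCoh.restrictD (j i)).obj ((DCoh.Lpull f).obj E) ≅
          (DCoh.tildeD (B i)).obj (DRing.toD ((DRing.LTensor.extCx (φ i)).obj K)))) := by
  classical
  haveI := hU.isOpenImmersion_fromSpec
  haveI : ∀ (R : CommRingCat.{u}), PreservesFiniteLimits (tilde.functor R) :=
    KFlat.TildeExact.preservesFiniteLimits_tilde
  obtain ⟨M, ⟨eM⟩⟩ := KFlat.TildeD.exists_iso_of_isQCohD (R := Γ(Y, U))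
    ((DCoh.restrictD hU.fromSpec).obj E) (PerfExt.isQCohD_restrict _ hE)
  let K := DerivedCategory.Q.objPreimage M
  let eK : DerivedCategory.Q.obj K ≅ M := DerivedCategory.Q.objObjPreimageIso M
  let e : (DCoh.restrictD hU.fromSpec).obj E ≅ (DCoh.tildeD Γ(Y, U)).obj (DRing.toD K) :=
    eM.symm ≪≫ (DCoh.tildeD Γ(Y, U)).mapIso eK.symm
  obtain ⟨t, ht⟩ := (f.isCompact_preimage hU.isCompact).elim_finite_subcover
    (fun V : {V : X.affineOpens // V.1 ≤ f ⁻¹ᵁ U} => ((V.1.1 : X.Opens) : Set X)) (fun V => V.1.1.2)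
    (fun x hx => by
      obtain ⟨V, hV, hxV, hVU⟩ := exists_isAffineOpen_mem_and_subset (x := x) (U := f ⁻¹ᵁ U) hx
      exact Set.mem_iUnion.2 ⟨⟨⟨V, hV⟩, hVU⟩, hxV⟩)
  let V : Fin t.card → {V : X.affineOpens // V.1 ≤ f ⁻¹ᵁ U} := fun i => (t.equivFin.symm i).1
  let φ : ∀ i, Γ(Y, U) →+* Γ(X, (V i).1.1) := fun i => (f.appLE U (V i).1.1 (V i).2).hom
  have hφ : ∀ i, (φ i).Flat := fun i =>
    HasRingHomProperty.appLE @Flat f inferInstance ⟨U, hU⟩ (V i).1 (V i).2
  refine ⟨K, t.card, fun i => Γ(X, (V i).1.1), φ, fun i => (V i).1.2.fromSpec,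
    fun i => (V i).1.2.isOpenImmersion_fromSpec, hφ, ?_, ⟨e⟩, fun i => ?_⟩
  · refine detects_of_surjective φ hφ fun p => ?_
    let y : Y := hU.fromSpec p
    have hy : y ∈ U := hU.range_fromSpec.le ⟨p, rfl⟩
    obtain ⟨x, hx⟩ := f.surjective y
    have hx' : x ∈ f ⁻¹ᵁ U := by show f x ∈ U; rw [hx]; exact hy
    obtain ⟨W, hW, hxW⟩ := Set.mem_iUnion₂.1 (ht hx')
    have hex : ∃ i, V i = W := ⟨t.equivFin ⟨W, hW⟩, by simp [V]⟩
    obtain ⟨i, rfl⟩ := hex
    refine ⟨i, (V i).1.2.primeIdealOf ⟨x, hxW⟩, ?_⟩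
    refine hU.isOpenImmersion_fromSpec.base_open.injective ?_
    refine (congrArg hU.fromSpec
      (IsAffineOpen.comap_primeIdealOf_appLE (f := f) U hU (V i).1.1 (V i).1.2 (V i).2 hxW)).trans ?_
    rw [hU.fromSpec_primeIdealOf]
    exact hx
  · letI : Algebra Γ(Y, U) Γ(X, (V i).1.1) := (φ i).toAlgebra
    haveI : Module.Flat Γ(Y, U) Γ(X, (V i).1.1) := hφ i
    haveI := (V i).1.2.isOpenImmersion_fromSpec
    obtain ⟨c⟩ := CohOps.LpullDual.chart_Lpull f (A := Γ(Y, U)) (B := Γ(X, (V i).1.1)) hU.fromSpec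
      (V i).1.2.fromSpec (IsAffineOpen.SpecMap_appLE_fromSpec f hU (V i).1.2 (V i).2).symm e
    exact ⟨c ≪≫ (DCoh.tildeD Γ(X, (V i).1.1)).mapIso
      ((DualCx.BaseChange.ext Γ(Y, U) Γ(X, (V i).1.1)).mapDerivedCategoryFactors.app K)⟩

/-- Pseudo-coherence descends. -/
theorem pc_descends (hE : DCoh.IsQCohD E) (m : ℤ) (h : DCoh.IsPseudoCoherentD m ((DCoh.Lpull f).obj E)) :
    DCoh.IsPseudoCoherentD m E := by
  refine PCohD.pc_of_local fun y => ?_
  obtain ⟨U, hU, hyU, -⟩ := exists_isAffineOpen_mem_and_subset (x := y) (U := ⊤) trivial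
  haveI := hU.isOpenImmersion_fromSpec
  refine ⟨_, hU.fromSpec, inferInstance, hU.range_fromSpec.ge hyU, ?_⟩
  obtain ⟨K, n, B, φ, j, hj, hφ, hd, ⟨e⟩, hc⟩ := exists_chart f hE U hU
  haveI := KFlat.TildeExact.preservesFiniteLimits_tilde Γ(Y, U)
  refine PCohD.pc_of_iso e.symm (KFlat.TildePC.isPseudoCoherentD_tildeD _ m ?_)
  refine DRing.PCDescent.pc_of_detects hφ hd K m fun i => ?_
  haveI := hj i
  haveI := KFlat.TildeExact.preservesFiniteLimits_tilde (B i)
  exact KFlat.TildePC.isPseudoCoherent_of_tildeD _ m (PCohD.pc_of_iso (hc i).some (PCohD.pc_restrict (j i) h))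

/-- Perfectness descends. -/
theorem perfect_descends (h : DCoh.IsPerfect ((DCoh.Lpull f).obj E)) : DCoh.IsPerfect E := by
  have hE := isQuasicoherent_HD f (PerfExt.isQCohD_of_isPerfect h)
  refine (PerfTri.Perfect.near_iff E).2 fun y => ?_
  obtain ⟨U, hU, hyU, -⟩ := exists_isAffineOpen_mem_and_subset (x := y) (U := ⊤) trivial
  haveI := hU.isOpenImmersion_fromSpec
  obtain ⟨K, n, B, φ, j, hj, hφ, hd, ⟨e⟩, hc⟩ := exists_chart f hE U hU
  haveI := KFlat.TildeExact.preservesFiniteLimits_tilde Γ(Y, U)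
  have hP : DCoh.IsPerfect ((DCoh.restrictD hU.fromSpec).obj E) := by
    refine PerfTri.Perfect.isPerfect_of_iso e.symm (KFlat.TildePerfect.isPerfect_tildeD _ ?_)
    refine DRing.Descent.perfect_of_detects hφ hd K fun i => ?_
    haveI := hj i
    haveI := KFlat.TildeExact.preservesFiniteLimits_tilde (B i)
    exact KFlat.TildePerfect.isPerfect_of_tildeD _
      (PerfTri.Perfect.isPerfect_of_iso (hc i).some (PerfExt.isPerfect_restrict (j i) h))
  obtain ⟨p, hp⟩ : y ∈ Set.range hU.fromSpec := hU.range_fromSpec.ge hyU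
  obtain ⟨W, k, hk, ⟨w, hw⟩, hsp⟩ := (PerfTri.Perfect.near_iff _).1 hP p
  exact ⟨W, k ≫ hU.fromSpec, inferInstance, ⟨w, by rw [Scheme.Hom.comp_apply, hw, hp]⟩,
    PerfTri.Perfect.isSP_of_iso (PerfTri.Perfect.restrComp k hU.fromSpec (k ≫ hU.fromSpec) rfl E) hsp⟩

end

end Groth.Agent.PerfDesc3
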