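import Groth.Agent.LFFrame.Basic
import Groth.Agent.HomShEval.Basic
import Groth.Agent.ZClosLib.CohDescent
import Groth.Agent.PCohD.ThickGen
import Groth.Agent.PCohD.FTFP
import Mathlib.RingTheory.Flat.FaithfullyFlat.Algebra
import Mathlib.AlgebraicGeometry.Morphisms.Flat

/-! Finite type descends along flat surjective open morphisms (no quasi-coherence). -/

set_option autoImplicit false
set_option backward.isDefEq.respectTransparency false
set_option backward.isDefEq.respectTransparency.types false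
universe u

open CategoryTheory AlgebraicGeometry Opposite TopologicalSpace
open Groth.Agent.PullStalk.Sky Groth.Agent.LFFrame
open scoped TensorProduct

noncomputable section

namespace Groth.Agent.PerfDesc3

/-- an equality on a stalk with a combination of germs holds nearby -/
theorem exists_comb_nhd {X : Scheme.{u}} (M : X.Modules) {U T : X.Opens} {n : ℕ} (e : Fin n → Γ(M, U))
    (h : T ≤ U) (m : Γ(M, T)) (x : X) (hx : x ∈ T)
    (hm : germM M T x hx m ∈ Submodule.span (X.presheaf.stalk x) (Set.range fun i => germM M U x (h hx) (e i))) :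
    ∃ (V : X.Opens) (hV : V ≤ T) (_ : x ∈ V) (a : Fin n → Γ(X, V)),
      comb M e (hV.trans h) a = M.presheaf.map (homOfLE hV).op m := by
  obtain ⟨a, ha⟩ := (Submodule.mem_span_range_iff_exists_fun _).1 hm
  choose W hxW r hr using fun i => X.presheaf.exists_germ_eq (x := x) (a i)
  let W₀ : X.Opens := ⟨(T : Set X) ∩ ⋂ i, (W i : Set X),
    T.2.inter (isOpen_iInter_of_finite fun i => (W i).2)⟩
  have hxW₀ : x ∈ W₀ := ⟨hx, Set.mem_iInter.2 hxW⟩
  have hW₀T : W₀ ≤ T := Set.inter_subset_left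
  have hW₀ : ∀ i, W₀ ≤ W i := fun i => Set.inter_subset_right.trans (Set.iInter_subset _ i)
  let r' : Fin n → Γ(X, W₀) := fun i => X.presheaf.map (homOfLE (hW₀ i)).op (r i)
  have hr' : ∀ i, X.presheaf.germ W₀ x hxW₀ (r' i) = a i := fun i => by
    rw [← hr i]
    exact X.presheaf.germ_res_apply (homOfLE (hW₀ i)) x hxW₀ (r i)
  have h0 : germM M W₀ x hxW₀ (comb M e (hW₀T.trans h) r') =
      germM M W₀ x hxW₀ (M.presheaf.map (homOfLE hW₀T).op m) := by
    rw [germ_comb]
    simp only [hr']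
    exact ha.trans (M.presheaf.germ_res_apply (homOfLE hW₀T) x hxW₀ m).symm
  obtain ⟨W₁, hxW₁, i₁, i₂, h1⟩ := M.presheaf.germ_eq x hxW₀ hxW₀ _ _ h0
  refine ⟨W₁, i₁.le.trans hW₀T, hxW₁, fun i => X.presheaf.map (homOfLE i₁.le).op (r' i), ?_⟩
  rw [← res_comb M e (hW₀T.trans h) i₁.le, ← res_res M hW₀T i₁.le]
  exact h1

/-- spanning descends along a flat morphism, stalkwise -/
theorem germSpan_eq_top {X Y : Scheme.{u}} (f : X ⟶ Y) [Flat f] (F : Y.Modules) {W : Y.Opens}
    (G : Set Γ(F, W)) (x : X) (hx : f x ∈ W)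
    (hspan : Submodule.span (X.presheaf.stalk x) ((fun s => germM ((Scheme.Modules.pullback f).obj F) (f ⁻¹ᵁ W) x hx
        (unitSec f F W s)) '' G) = ⊤) :
    ZClosLib.CohDescent.germSpan F G (f x) hx = ⊤ := by
  let := (f.stalkMap x).hom.toAlgebra
  let := PullStalk.Basic.moduleOver f F x
  have : IsScalarTower (Y.presheaf.stalk (f x)) (X.presheaf.stalk x)
      (((Scheme.Modules.pullback f).obj F).presheaf.stalk x) :=
    IsScalarTower.of_algebraMap_smul fun _ _ => rfl
  have : Module.Flat (Y.presheaf.stalk (f x)) (X.presheaf.stalk x) := Flat.stalkMap f x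
  have : IsLocalHom (algebraMap (Y.presheaf.stalk (f x)) (X.presheaf.stalk x)) :=
    inferInstanceAs (IsLocalHom (f.stalkMap x).hom)
  have : Module.FaithfullyFlat (Y.presheaf.stalk (f x)) (X.presheaf.stalk x) :=
    Module.FaithfullyFlat.of_flat_of_isLocalHom
  refine eq_top_iff.2 fun u _ => ?_
  let S' := ZClosLib.CohDescent.germSpan F G (f x) hx
  refine (Submodule.Quotient.mk_eq_zero S').1 ?_
  let ψ := (TensorProduct.mk (Y.presheaf.stalk (f x)) (X.presheaf.stalk x) (F.presheaf.stalk (f x) ⧸ S') 1) ∘ₗ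
    S'.mkQ
  have hbc' := PullStalk.Basic.isBaseChange_unitStalk f F x
  have h0 : hbc'.lift ψ = 0 := LinearMap.ext_on hspan fun z hz => by
    obtain ⟨s, hs, rfl⟩ := hz
    rw [LinearMap.zero_apply]
    refine (congrArg _ (PullStalk.Basic.unitStalkHom_germ f F x W hx s).symm).trans ?_
    refine (hbc'.lift_eq ψ _).trans ?_
    have : germM F W (f x) hx s ∈ S' := Submodule.subset_span ⟨s, hs, rfl⟩
    simp [ψ, (Submodule.Quotient.mk_eq_zero S').2 this]
  refine Module.FaithfullyFlat.tensorProduct_mk_injective (A := Y.presheaf.stalk (f x))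
    (B := X.presheaf.stalk x) (F.presheaf.stalk (f x) ⧸ S') ?_
  rw [map_zero]
  exact (hbc'.lift_eq ψ u).symm.trans (LinearMap.congr_fun h0 _)


theorem isFT_of_spans {X : Scheme.{u}} {M : X.Modules}
    (h : ∀ x : X, ∃ (V : X.Opens) (n : ℕ) (a : Fin n → Γ(M, V)), x ∈ V ∧ PCohD.Thick.Spans M a) :
    CohB1.IsFT M := by
  refine PCohD.FTFP.isFT_of_locGen fun x => ?_
  obtain ⟨V, n, a, hx, ha⟩ := h x
  obtain ⟨P, p, hP, hp⟩ := ha.exists_epi
  obtain ⟨W, k, q, hW, hq⟩ := PCohD.FTFP.exists_free_epi V.ι hP p ⟨x, hx⟩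
  exact ⟨W, k, q, hW, hq⟩

theorem isFT_descends {X Y : Scheme.{u}} (f : X ⟶ Y) [Flat f] [Surjective f] (hf : IsOpenMap f)
    (M : Y.Modules) (h : CohB1.IsFT ((Scheme.Modules.pullback f).obj M)) : CohB1.IsFT M := by
  classical
  refine isFT_of_spans fun y => ?_
  obtain ⟨x, rfl⟩ := f.surjective y
  let P := (Scheme.Modules.pullback f).obj M
  obtain ⟨U, hxU, n, t, ht⟩ := HomShEval.exists_span_germ P h x
  let := (f.stalkMap x).hom.toAlgebra
  let := PullStalk.Basic.moduleOver f M x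
  have : IsScalarTower (Y.presheaf.stalk (f x)) (X.presheaf.stalk x) (P.presheaf.stalk x) :=
    IsScalarTower.of_algebraMap_smul fun _ _ => rfl
  have hbc := PullStalk.Basic.isBaseChange_unitStalk f M x
  let γ : M.presheaf.stalk (f x) → P.presheaf.stalk x := fun s => PullStalk.Basic.unitStalkHom f M x s
  have hγ : Submodule.span (X.presheaf.stalk x) (Set.range γ) = ⊤ := by
    refine eq_top_iff.2 fun z hz => ?_
    clear hz
    induction z using hbc.inductionOn with
    | zero => exact zero_mem _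
    | smul s m hm => exact Submodule.smul_mem _ s hm
    | add a b ha hb => exact add_mem ha hb
    | tmul m => exact Submodule.subset_span ⟨m, rfl⟩
  have hfin : ∀ i, ∃ τ : Finset (M.presheaf.stalk (f x)),
      germM P U x hxU (t i) ∈ Submodule.span (X.presheaf.stalk x) (γ '' τ) := fun i => by
    obtain ⟨τ, hτ, hmem⟩ := Submodule.mem_span_finite_of_mem_span
      (show germM P U x hxU (t i) ∈ Submodule.span (X.presheaf.stalk x) (Set.range γ) by rw [hγ]; trivial)
    choose g hg using fun (a : τ) => hτ a.2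
    refine ⟨Finset.univ.image g, Submodule.span_mono (fun a ha => ?_) hmem⟩
    exact ⟨g ⟨a, ha⟩, by simp, hg ⟨a, ha⟩⟩
  choose τ hτ using hfin
  let S := Finset.univ.biUnion τ
  choose W₀ hW₀ m₀ hm₀ using fun s : Fin S.card => exists_germM_eq M (f x) (S.equivFin.symm s).1
  let W : Y.Opens := ⟨⋂ s, (W₀ s : Set Y), isOpen_iInter_of_finite fun s => (W₀ s).2⟩
  have hxW : f x ∈ W := Set.mem_iInter.2 hW₀
  have hle : ∀ s, W ≤ W₀ s := fun s => Set.iInter_subset _ s
  let m : Fin S.card → Γ(M, W) := fun s => M.presheaf.map (homOfLE (hle s)).op (m₀ s)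
  have hm : ∀ s, germM M W (f x) hxW (m s) = (S.equivFin.symm s).1 := fun s =>
    (M.presheaf.germ_res_apply (homOfLE (hle s)) (f x) hxW (m₀ s)).trans (hm₀ s)
  let v : Fin S.card → Γ(P, f ⁻¹ᵁ W) := fun j => unitSec f M W (m j)
  let T : X.Opens := U ⊓ f ⁻¹ᵁ W
  have hxT : x ∈ T := ⟨hxU, hxW⟩
  have hnear : ∀ i, ∃ (V : X.Opens) (hV : V ≤ T) (_ : x ∈ V) (a : Fin S.card → Γ(X, V)),
      comb P v (hV.trans inf_le_right) a =
        P.presheaf.map (homOfLE hV).op (P.presheaf.map (homOfLE (inf_le_left : T ≤ U)).op (t i)) :=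
    fun i => exists_comb_nhd P v inf_le_right _ x hxT (by
      refine Eq.mpr (congrArg (· ∈ _) (P.presheaf.germ_res_apply _ x hxT (t i))) ?_
      refine Submodule.span_mono ?_ (hτ i)
      rintro _ ⟨w, hw, rfl⟩
      obtain ⟨j, hj⟩ := S.equivFin.symm.surjective ⟨w, Finset.mem_biUnion.2 ⟨i, Finset.mem_univ i, hw⟩⟩
      refine ⟨j, ?_⟩
      refine (PullStalk.Basic.unitStalkHom_germ f M x W hxW (m j)).symm.trans ?_
      rw [hm, hj])
  choose V hVT hxV a ha using hnear
  let U' : X.Opens := ⟨(T : Set X) ∩ ⋂ i, (V i : Set X), T.2.inter (isOpen_iInter_of_finite fun i => (V i).2)⟩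
  let O : Y.Opens := ⟨(W : Set Y) ∩ f '' (U' : Set X), W.2.inter (hf _ U'.2)⟩
  refine ⟨O, S.card, fun j => M.presheaf.map (homOfLE (show O ≤ W from Set.inter_subset_left)).op (m j),
    ⟨hxW, x, ⟨hxT, Set.mem_iInter.2 hxV⟩, rfl⟩, fun z hz => ?_⟩
  rw [PCohD.Thick.stalkComb_res]
  obtain ⟨hzW, y, hy, rfl⟩ := hz
  have hspan : Submodule.span (X.presheaf.stalk y) ((fun s => germM P (f ⁻¹ᵁ W) y hzW
      (unitSec f M W s)) '' Set.range m) = ⊤ := by
    refine eq_top_iff.2 ((ht y hy.1.1).ge.trans (Submodule.span_le.2 ?_))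
    rintro _ ⟨i, rfl⟩
    have hxi : y ∈ V i := Set.mem_iInter.1 hy.2 i
    have h1 := congrArg (germM P (V i) y hxi) (ha i)
    rw [germ_comb, res_res] at h1
    have h2 : germM P U y hy.1.1 (t i) = _ :=
        ((P.presheaf.germ_res_apply _ y hxi (t i)).symm.trans h1.symm)
    simp only [SetLike.mem_coe]
    rw [h2]
    exact Submodule.sum_mem _ fun j _ => Submodule.smul_mem _ _
      (Submodule.subset_span ⟨m j, ⟨j, rfl⟩, rfl⟩)
  have h3 := germSpan_eq_top f M (Set.range m) y hzW hspan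
  unfold ZClosLib.CohDescent.germSpan at h3
  rw [← Set.range_comp] at h3
  rw [← LinearMap.range_eq_top, LFFrame.stalkComb, Fintype.range_linearCombination]
  exact h3

end Groth.Agent.PerfDesc3
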