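import Groth.Agent.PerfDesc3.Basic
import Groth.Agent.PerfDesc3.FTDesc
import Groth.Agent.PCohD.FTFP
import Groth.Agent.KFlat.LpullComp
import Groth.Agent.S7240
import Mathlib.AlgebraicGeometry.Morphisms.UniversallyOpen

/-! Pseudo-coherence descends along fppf morphisms. -/

set_option autoImplicit false
set_option backward.isDefEq.respectTransparency.types false

universe u

open CategoryTheory CategoryTheory.Limits AlgebraicGeometry TopologicalSpace Pretriangulated
open Groth.Agent.KFlat.TildePC (Appr appr_of_isIso)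
attribute [local instance] HasDerivedCategory.standard

noncomputable section

namespace Groth.Agent.PerfDesc3

variable {X Y : Scheme.{u}}

theorem isQuasicoherent_of_isZero' {M : X.Modules} (h : IsZero M) : M.IsQuasicoherent :=
  have h0 : IsZero (FlatMod.freeMod X 0) := (IsZero.iff_id_eq_zero _).2 (Sigma.hom_ext _ _ fun i => i.elim0)
  haveI := Groth.Agent.PerfTri.Betti.isQuasicoherent_of_isFinLocFree (Groth.Agent.S0923.isFinLocFree_freeMod 0 : FlatMod.IsFinLocFree (FlatMod.freeMod X 0))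
  @Groth.Agent.QCoh.isQuasicoherent_of_iso _ _ _ (h0.iso h) inferInstance

theorem isFT_of_iso' {A B : X.Modules} (e : A ≅ B) (h : CohB1.IsFT A) : CohB1.IsFT B :=
  PCohD.FTFP.isFT_of_locGen fun x => by
    obtain ⟨V, n, p, hx, hp⟩ := PCohD.FTFP.locGen_of_isFT h x
    exact ⟨V, n, p ≫ ((Scheme.Modules.restrictFunctor V.ι).mapIso e).hom, hx, epi_comp _ _⟩

theorem isZero_third (T : Triangle (DCoh.D X)) (hT : T ∈ distinguishedTriangles) (i : ℤ)
    (h₁ : Epi ((DerivedCategory.homologyFunctor X.Modules i).map T.mor₁))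
    (h₂ : Mono ((DerivedCategory.homologyFunctor X.Modules (i + 1)).map T.mor₁)) :
    IsZero ((DerivedCategory.homologyFunctor X.Modules i).obj T.obj₃) :=
  (DerivedCategory.HomologySequence.exact₃ T hT i (i + 1) rfl).isZero_of_both_zeros
    ((DerivedCategory.HomologySequence.epi_homologyMap_mor₁_iff T hT i).1 h₁)
    ((DerivedCategory.HomologySequence.mono_homologyMap_mor₁_iff T hT i (i + 1) rfl).1 h₂)

open KFlat.Pull in
open PerfTri in
theorem nonempty_Lpull_restrictD {S U : Scheme.{u}} (j : U ⟶ S) [IsOpenImmersion j] [DCoh.HasLpull j] (K : DCoh.D S) :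
    Nonempty ((DCoh.Lpull j).obj K ≅ (DCoh.restrictD j).obj K) := by
  let F₀ := DerivedCategory.Q.objPreimage K
  let P := (resY S).obj F₀
  have hP : DCoh.IsKFlat P := isKFlat_resY F₀
  have := quasiIso_resYπ F₀
  let eP : DerivedCategory.Q.obj P ≅ K :=
    asIso (DerivedCategory.Q.map ((resYπ S).app F₀)) ≪≫ DerivedCategory.Q.objObjPreimageIso K
  exact ⟨(DCoh.Lpull j).mapIso eP.symm ≪≫ @asIso _ _ _ _ ((toPull j).app P) (isIso_toPull j hP) ≪≫
    DerivedCategory.Q.mapIso ((NatIso.mapHomologicalComplex (Scheme.Modules.restrictFunctorIsoPullback j).symm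
      (ComplexShape.up ℤ)).app P) ≪≫
    (Perfect.restrQ j P).symm ≪≫ (DCoh.restrictD j).mapIso eP⟩

theorem Lpull_restrict {W U : Scheme.{u}} (f : X ⟶ Y) (j : U ⟶ Y) (k : W ⟶ X) (g : W ⟶ U)
    [IsOpenImmersion j] [IsOpenImmersion k] [DCoh.HasLpull f] [DCoh.HasLpull g] (h : k ≫ f = g ≫ j)
    (E : DCoh.D Y) :
    Nonempty ((DCoh.Lpull g).obj ((DCoh.restrictD j).obj E) ≅
      (DCoh.restrictD k).obj ((DCoh.Lpull f).obj E)) := by
  haveI := KFlat.Pull.hasLpull j
  haveI := KFlat.Pull.hasLpull k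
  haveI := KFlat.Pull.hasLpull (g ≫ j)
  haveI := KFlat.Pull.hasLpull (k ≫ f)
  obtain ⟨e₁⟩ := nonempty_Lpull_restrictD j E
  obtain ⟨e₂⟩ := nonempty_Lpull_restrictD k ((DCoh.Lpull f).obj E)
  exact ⟨(DCoh.Lpull g).mapIso e₁.symm ≪≫ (KFlat.Pull.lpullCompIso g j).app E ≪≫
    eqToIso (by congr 2; exact h.symm) ≪≫ (KFlat.Pull.lpullCompIso k f).symm.app E ≪≫ e₂⟩

section core

variable (f : X ⟶ Y) [Flat f] [Surjective f] [QuasiCompact f] [LocallyOfFinitePresentation f]
  [DCoh.HasLpull f]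

theorem core (E : DCoh.D Y) (m : ℤ) (h : DCoh.IsPseudoCoherentD m ((DCoh.Lpull f).obj E)) :
    DCoh.IsPseudoCoherentD m E := by
  let HY := DerivedCategory.homologyFunctor Y.Modules
  let G := (Scheme.Modules.pullback f).mapDerivedCategory
  obtain ⟨eG⟩ := CohOps.LpullDual.nonempty_Lpull f E
  have hG : DCoh.IsPseudoCoherentD m (G.obj E) := PCohD.pc_of_iso eG h
  -- truncation
  let F := DerivedCategory.Q.objPreimage E
  let eF : DerivedCategory.Q.obj F ≅ E := DerivedCategory.Q.objObjPreimageIso E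
  let E' : DCoh.D Y := DerivedCategory.Q.obj (F.truncGE (m + 1))
  let π : E ⟶ E' := eF.inv ≫ DerivedCategory.Q.map (F.πTruncGE (m + 1))
  have hπ : ∀ i, m < i → IsIso ((HY i).map π) := fun i hi => by
    haveI : QuasiIsoAt (F.πTruncGE (m + 1)) i := CochainComplex.quasiIsoAt_πTruncGE F (m + 1) i (by omega)
    haveI := (quasiIsoAt_iff_isIso_homologyMap (F.πTruncGE (m + 1)) i).1 inferInstance
    haveI : IsIso ((HY i).map (DerivedCategory.Q.map (F.πTruncGE (m + 1)))) :=
      (NatIso.isIso_map_iff (DerivedCategory.homologyFunctorFactors Y.Modules i) _).2 ‹_›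
    rw [Functor.map_comp]; infer_instance
  have hz : ∀ i, i ≤ m → IsZero ((HY i).obj E') := fun i hi =>
    (PCohD.isZero_homology_Q _ i).2 ((HomologicalComplex.exactAt_iff_isZero_homology _ _).1
      ((F.truncGE (m + 1)).exactAt_of_isGE (m + 1) i (by omega)))
  have hA : Appr m π := ⟨hπ, ⟨fun _ _ _ => (hz m le_rfl).eq_of_src _ _⟩⟩
  have hA' : Appr m (G.map π) := KFlat.TildePC.Appr.map (Scheme.Modules.pullback f) hA
  have hq : DCoh.IsQCohD E' := fun i => by
    by_cases hi : i ≤ m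
    · exact isQuasicoherent_of_isZero' (hz i hi)
    · haveI := hπ i (by omega)
      haveI : ((Scheme.Modules.pullback f).obj ((HY i).obj E)).IsQuasicoherent :=
        @Groth.Agent.QCoh.isQuasicoherent_of_iso _ _ _
          ((KFlat.MapHomology.iso (Scheme.Modules.pullback f) i).app E)
          ((Groth.Agent.S7240.result m _ hG).1 i (by omega))
      exact @Groth.Agent.QCoh.isQuasicoherent_of_iso _ _ _ (asIso ((HY i).map π))
        (Desc44.QCohDescent.isQuasicoherent_of_pullback f _)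
  obtain ⟨eG'⟩ := CohOps.LpullDual.nonempty_Lpull f E'
  have hE' : DCoh.IsPseudoCoherentD m E' :=
    pc_descends f hq m (PCohD.pc_of_iso eG'.symm (PCohD.pc_of_appr (G.map π) hA' hG))
  -- the fibre of the truncation
  obtain ⟨Z, δ, δ', hT⟩ := distinguished_cocone_triangle π
  have hZ : ∀ i, m ≤ i → IsZero ((DerivedCategory.homologyFunctor Y.Modules i).obj Z) := fun i hi => by
    refine isZero_third _ hT i ?_ ?_
    · rcases hi.eq_or_lt with rfl | hi'
      · exact hA.2
      · haveI := hπ i hi'; exact inferInstanceAs (Epi ((HY i).map π))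
    · haveI := hπ (i + 1) (by omega); exact inferInstanceAs (Mono ((HY (i + 1)).map π))
  refine PCohD.pc_of_local fun y => ?_
  obtain ⟨U, j, hj, ⟨u, rfl⟩, hU⟩ := (PCohD.pc_iff E').1 hE' y
  obtain ⟨P, α, hP, hPz, hα⟩ := PCohD.exists_ge hU
  let R := DCoh.restrictD j
  -- the obstruction vanishes near `u`
  let K := DerivedCategory.Q.objPreimage (R.obj Z)
  let eK : DerivedCategory.Q.obj K ≅ R.obj Z := DerivedCategory.Q.objObjPreimageIso _
  obtain ⟨K', a, s, hs, has⟩ := DerivedCategory.left_fac (α ≫ R.map δ ≫ eK.inv)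
  have hK' : ∀ i, m ≤ i → IsZero (K'.homology i) := fun i hi => by
    haveI := hs
    exact (PCohD.isZero_homology_Q K' i).1 ((PCohD.FTFP.isZero_restr j (hZ i hi)).of_iso
      ((DerivedCategory.homologyFunctor U.Modules i).mapIso (eK.symm ≪≫ asIso (DerivedCategory.Q.map s)).symm))
  obtain ⟨V, huV, ⟨H⟩⟩ := PerfTri.Nullhom.exists_nullhomotopy_opens a hP m hPz hK' u
  let S := DCoh.restrictD V.ι
  have h0 : S.map (DerivedCategory.Q.map a) = 0 := by
    rw [← cancel_mono (PerfTri.Perfect.restrQ V.ι K').hom, zero_comp]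
    refine ((Scheme.Modules.restrictFunctor V.ι).mapDerivedCategoryFactors.hom.naturality a).trans ?_
    exact (congrArg (_ ≫ ·) ((DerivedCategory.Q_map_eq_of_homotopy _ H).trans
      (Functor.map_zero _ _ _))).trans comp_zero
  have h1 : S.map α ≫ S.map (R.map δ) = 0 := by
    haveI := hs
    rw [← cancel_mono (S.map eK.inv), zero_comp, Category.assoc, ← Functor.map_comp, ← Functor.map_comp, has,
      Functor.map_comp, h0, zero_comp]
  let T₂ := S.mapTriangle.obj (R.mapTriangle.obj (Triangle.mk π δ δ'))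
  have hT₂ : T₂ ∈ distinguishedTriangles := S.map_distinguished _ (R.map_distinguished _ hT)
  obtain ⟨γ, hγ⟩ := Triangle.coyoneda_exact₂ T₂ hT₂ (S.map α) h1
  have hα₂ : Appr m (S.map α) := KFlat.TildePC.Appr.map (Scheme.Modules.restrictFunctor V.ι) hα
  have hπ₂ : Appr m T₂.mor₁ := KFlat.TildePC.Appr.map (Scheme.Modules.restrictFunctor V.ι)
    (KFlat.TildePC.Appr.map (Scheme.Modules.restrictFunctor j) hA)
  -- the cone of the lift
  obtain ⟨C, c, c', hC⟩ := distinguished_cocone_triangle γ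
  let HV := DerivedCategory.homologyFunctor (V : Scheme.{u}).Modules
  have hγi : ∀ i, m < i → IsIso ((HV i).map γ) := fun i hi => by
    haveI := hπ₂.1 i hi
    haveI : IsIso ((HV i).map γ ≫ (HV i).map T₂.mor₁) := by
      rw [← Functor.map_comp, ← hγ]; exact hα₂.1 i hi
    exact IsIso.of_isIso_comp_right _ ((HV i).map T₂.mor₁)
  have hCz : ∀ i, m < i → IsZero ((HV i).obj C) := fun i hi =>
    isZero_third _ hC i (by haveI := hγi i hi; exact inferInstanceAs (Epi ((HV i).map γ)))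
      (by haveI := hγi (i + 1) (by omega); exact inferInstanceAs (Mono ((HV (i + 1)).map γ)))
  have hP₂ : ∀ n, DCoh.IsPseudoCoherentD n (S.obj (DerivedCategory.Q.obj P)) := fun n =>
    PCohD.pc_restrict V.ι (PCohD.pc_of_isAp ⟨P, 𝟙 _, hP, appr_of_isIso n _⟩)
  let k : (V : Scheme.{u}) ⟶ Y := V.ι ≫ j
  let g := pullback.snd f k
  let w := pullback.fst f k
  haveI := KFlat.Pull.hasLpull g
  let Gg := (Scheme.Modules.pullback g).mapDerivedCategory
  have hEV : DCoh.IsPseudoCoherentD m (Gg.obj T₂.obj₁) := by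
    obtain ⟨e⟩ := CohOps.LpullDual.nonempty_Lpull g T₂.obj₁
    obtain ⟨e'⟩ := Lpull_restrict f k w g pullback.condition E
    exact PCohD.pc_of_iso ((DCoh.Lpull g).mapIso (PerfTri.Perfect.restrComp V.ι j k rfl E) ≪≫ e').symm
      (PCohD.pc_restrict w h) |> PCohD.pc_of_iso e
  have hPg : DCoh.IsPseudoCoherentD (m + 1) (Gg.obj (S.obj (DerivedCategory.Q.obj P))) := by
    obtain ⟨e⟩ := CohOps.LpullDual.nonempty_Lpull g (S.obj (DerivedCategory.Q.obj P))
    exact PCohD.pc_of_iso e (KFlat.LocalD.isPseudoCoherentD_Lpull g (hP₂ _))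
  have hCg : DCoh.IsPseudoCoherentD m (Gg.obj C) :=
    PCohD.pc₃ _ (Gg.map_distinguished _ hC) hPg hEV
  have hFT : CohB1.IsFT ((Scheme.Modules.pullback g).obj ((HV m).obj C)) := by
    have := PCohD.FTFP.isFT_homology hCg fun i hi =>
      ((Scheme.Modules.pullback g).map_isZero (hCz i hi)).of_iso
        ((KFlat.MapHomology.iso (Scheme.Modules.pullback g) i).app C)
    exact isFT_of_iso' ((KFlat.MapHomology.iso (Scheme.Modules.pullback g) m).app C) this
  have hCpc := PCohD.FTFP.pc_of_isFT_homology hCz (isFT_descends g g.isOpenMap _ hFT)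
  refine ⟨V, k, inferInstance, ⟨⟨u, huV⟩, rfl⟩, ?_⟩
  exact PCohD.pc_of_iso (PerfTri.Perfect.restrComp V.ι j k rfl E) (PCohD.pc₂ _ hC (hP₂ m) hCpc)

end core

/-- Pseudo-coherence descends along fppf morphisms. -/
theorem pc_descends_fppf (f : X ⟶ Y) [Flat f] [Surjective f] [LocallyOfFinitePresentation f] [DCoh.HasLpull f]
    (E : DCoh.D Y) (m : ℤ) (h : DCoh.IsPseudoCoherentD m ((DCoh.Lpull f).obj E)) :
    DCoh.IsPseudoCoherentD m E := by
  classical
  refine PCohD.pc_of_local fun y => ?_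
  obtain ⟨U, hU, hyU, -⟩ := exists_isAffineOpen_mem_and_subset (x := y) (U := ⊤) trivial
  have ho : IsOpenMap f := f.isOpenMap
  obtain ⟨t, ht⟩ := hU.isCompact.elim_finite_subcover
    (fun V : {V : X.affineOpens // V.1 ≤ f ⁻¹ᵁ U} => f '' ((V.1.1 : X.Opens) : Set X))
    (fun V => ho _ V.1.1.2) (fun z hz => by
      obtain ⟨x, rfl⟩ := f.surjective z
      obtain ⟨V, hV, hxV, hVU⟩ := exists_isAffineOpen_mem_and_subset (x := x) (U := f ⁻¹ᵁ U) hz
      exact Set.mem_iUnion.2 ⟨⟨⟨V, hV⟩, hVU⟩, x, hxV, rfl⟩)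
  let W : X.Opens := ⟨⋃ V ∈ t, ((V.1.1 : X.Opens) : Set X), isOpen_biUnion fun V _ => V.1.1.2⟩
  have hW : W ≤ f ⁻¹ᵁ U := fun x hx => by
    obtain ⟨V, _, hxV⟩ := Set.mem_iUnion₂.1 hx
    exact V.2 hxV
  haveI : CompactSpace W.toScheme :=
    isCompact_iff_compactSpace.1 (t.isCompact_biUnion fun V _ => V.1.2.isCompact)
  haveI : IsAffine U.toScheme := hU
  let g : W.toScheme ⟶ U.toScheme := f.resLE U W hW
  have hg : g ≫ U.ι = W.ι ≫ f := Scheme.Hom.resLE_comp_ι f hW
  haveI : QuasiCompact g := (quasiCompact_iff_compactSpace g).2 inferInstance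
  haveI : Surjective g := ⟨fun z => by
    obtain ⟨V, hVt, x, hx, hxz⟩ := Set.mem_iUnion₂.1 (ht z.2)
    have hxW : x ∈ W := Set.mem_iUnion₂.2 ⟨V, hVt, hx⟩
    refine ⟨⟨x, hxW⟩, U.ι.isOpenEmbedding.injective ?_⟩
    exact (congrArg (fun φ : W.toScheme ⟶ Y => φ ⟨x, hxW⟩) hg).trans hxz⟩
  haveI : Flat g := inferInstanceAs (Flat (X.homOfLE hW ≫ f ∣_ U))
  haveI : LocallyOfFinitePresentation g := inferInstanceAs (LocallyOfFinitePresentation (X.homOfLE hW ≫ f ∣_ U))
  haveI := KFlat.Pull.hasLpull g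
  obtain ⟨e⟩ := Lpull_restrict f U.ι W.ι g hg.symm E
  exact ⟨U, U.ι, inferInstance, ⟨⟨y, hyU⟩, rfl⟩,
    core g _ m (PCohD.pc_of_iso e.symm (PCohD.pc_restrict W.ι h))⟩

end Groth.Agent.PerfDesc3
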